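import Mathlib.Algebra.Lie.Basis.Base
import Mathlib.Algebra.Lie.Semisimple.Defs
import Mathlib.Algebra.Lie.Weights.Linear
import Mathlib.FieldTheory.IsAlgClosed.Basic

/-!
# Weights below the highest root, Borel stable subspaces
-/

set_option autoImplicit false
set_option backward.isDefEq.respectTransparency false
set_option backward.isDefEq.respectTransparency.types false

universe u v w

open LieAlgebra LieModule Module

namespace Groth.Agent.AdjVarLib

variable {ι : Type u} {K : Type v} {L : Type w} [Fintype ι] [Field K] [LieRing L] [LieAlgebra K L]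
variable {H : LieSubalgebra K L} (b : LieAlgebra.Basis ι H)

/-- The elements of a Lie algebra mapping a subspace into itself. -/
def stab (P : Submodule K L) : LieSubalgebra K L where
  carrier := {z | ∀ p ∈ P, ⁅z, p⁆ ∈ P}
  zero_mem' p _ := by simp
  add_mem' ha hb p hp := by rw [add_lie]; exact P.add_mem (ha p hp) (hb p hp)
  smul_mem' c _ ha p hp := by rw [smul_lie]; exact P.smul_mem c (ha p hp)
  lie_mem' ha hb p hp := by
    rw [lie_lie]; exact P.sub_mem (ha _ (hb p hp)) (hb _ (ha p hp))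

/-- The smallest subspace containing `X` and stable under the lowering operators. -/
def down (X : Set L) : Submodule K L :=
  sInf {M : Submodule K L | X ⊆ M ∧ ∀ i, ∀ y ∈ M, ⁅b.f i, y⁆ ∈ M}

theorem subset_down (X : Set L) : X ⊆ down b X := fun _ hx =>
  Submodule.mem_sInf.2 fun _ hM => hM.1 hx

theorem f_mem_down {X : Set L} (i : ι) {y : L} (hy : y ∈ down b X) : ⁅b.f i, y⁆ ∈ down b X :=
  Submodule.mem_sInf.2 fun M hM => hM.2 i y (Submodule.mem_sInf.1 hy M hM)

theorem down_le {X : Set L} {M : Submodule K L} (h1 : X ⊆ M) (h2 : ∀ i, ∀ y ∈ M, ⁅b.f i, y⁆ ∈ M) :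
    down b X ≤ M := sInf_le ⟨h1, h2⟩

theorem e_lie_h (i : ι) (h : H) : ⁅b.e i, (h : L)⁆ = -(b.baseSupp i h • b.e i) := by
  rw [← lie_skew, b.baseSupp_apply_smul_e]; rfl

theorem h_lie_f (i : ι) (h : H) : ⁅(h : L), b.f i⁆ = -(b.baseSupp i h • b.f i) := by
  rw [b.baseSupp_apply_smul_f, neg_neg]; rfl

/-- A subspace generated by singular vectors under the lowering operators is an ideal. -/
theorem down_eq_top [LieAlgebra.IsSimple K L] {X : Set L} (hne : ∃ x ∈ X, x ≠ 0)
    (hh : ∀ (h : H), ∀ x ∈ X, ⁅(h : L), x⁆ ∈ down b X) (he : ∀ i, ∀ x ∈ X, ⁅b.e i, x⁆ = 0) :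
    down b X = ⊤ := by
  classical
  set P := down b X
  let M' : Submodule K L := P ⊓ ⨅ h : H, P.comap (LieAlgebra.ad K L (h : L))
  have hP' : P ≤ M' := by
    refine down_le b (fun x hx => ⟨subset_down b X hx, ?_⟩) fun i y hy => ⟨f_mem_down b i hy.1, ?_⟩
    · simp only [Submodule.coe_iInf, Set.mem_iInter]
      exact fun h => hh h x hx
    · obtain ⟨hy1, hy2⟩ := hy
      simp only [Submodule.mem_iInf, SetLike.mem_coe, Submodule.mem_comap, LieAlgebra.ad_apply] at hy2 ⊢
      intro h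
      rw [leibniz_lie, h_lie_f, neg_lie, smul_lie]
      exact P.add_mem (P.neg_mem (P.smul_mem _ (f_mem_down b i hy1))) (f_mem_down b i (hy2 h))
  have hH : ∀ h : H, ∀ p ∈ P, ⁅(h : L), p⁆ ∈ P := fun h p hp => by
    have := (hP' hp).2
    simp only [SetLike.mem_coe, Submodule.mem_iInf, Submodule.mem_comap, LieAlgebra.ad_apply] at this
    exact this h
  let M'' : Submodule K L := P ⊓ ⨅ i : ι, P.comap (LieAlgebra.ad K L (b.e i))
  have hP'' : P ≤ M'' := by
    refine down_le b (fun x hx => ⟨subset_down b X hx, ?_⟩) fun j y hy => ⟨f_mem_down b j hy.1, ?_⟩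
    · simp only [Submodule.coe_iInf, Set.mem_iInter]
      intro i
      show ⁅b.e i, x⁆ ∈ P
      rw [he i x hx]
      exact P.zero_mem
    · obtain ⟨hy1, hy2⟩ := hy
      simp only [Submodule.mem_iInf, SetLike.mem_coe, Submodule.mem_comap, LieAlgebra.ad_apply] at hy2 ⊢
      intro i
      rw [leibniz_lie]
      refine P.add_mem ?_ (f_mem_down b j (hy2 i))
      by_cases hij : i = j
      · subst hij; rw [(b.sl2 i).lie_e_f]; exact hH (b.h' i) y hy1
      · rw [b.lie_e_f_ne i j hij, zero_lie]; exact P.zero_mem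
  have hstab : ∀ z : L, ∀ p ∈ P, ⁅z, p⁆ ∈ P := by
    intro z
    have h1 : (⊤ : LieSubalgebra K L) ≤ stab P := by
      rw [← b.span_ef, LieSubalgebra.lieSpan_le]
      rintro _ (⟨i, rfl⟩ | ⟨i, rfl⟩) p hp
      · have := (hP'' hp).2
        simp only [SetLike.mem_coe, Submodule.mem_iInf, Submodule.mem_comap, LieAlgebra.ad_apply] at this
        exact this i
      · exact f_mem_down b i hp
    exact h1 (LieSubalgebra.mem_top z)
  let I : LieIdeal K L := { P with lie_mem := fun {z p} hp => hstab z p hp }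
  rcases LieAlgebra.IsSimple.eq_bot_or_eq_top I with hI | hI
  · obtain ⟨x, hx, hx0⟩ := hne
    have : x ∈ I := subset_down b X hx
    rw [hI] at this
    exact absurd ((LieSubmodule.mem_bot x).1 this) hx0
  · ext z
    simp only [Submodule.mem_top, iff_true]
    have : z ∈ I := hI ▸ LieSubmodule.mem_top z
    exact this

variable [CharZero K] [FiniteDimensional K L] [LieRing.IsNilpotent H]

/-- Root space of a linear form, as a subspace. -/
noncomputable abbrev g (H : LieSubalgebra K L) [LieRing.IsNilpotent H] (χ : Dual K H) : Submodule K L :=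
  (rootSpace H (χ : H → K)).toSubmodule

theorem lie_mem_g {χ₁ χ₂ χ₃ : Dual K H} {x y : L} (hx : x ∈ g H χ₁) (hy : y ∈ g H χ₂) (h : χ₁ + χ₂ = χ₃) :
    ⁅x, y⁆ ∈ g H χ₃ := by
  subst h
  exact lie_mem_genWeightSpace_of_mem_genWeightSpace hx hy

theorem e_mem_g (i : ι) : b.e i ∈ g H (b.baseSupp i) := by
  simp only [g, LieSubmodule.mem_toSubmodule, LieModule.mem_genWeightSpace]
  exact fun h => ⟨1, by
    rw [pow_one, LinearMap.sub_apply, LinearMap.smul_apply, Module.End.one_apply,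
      b.baseSupp_apply_smul_e, LieModule.toEnd_apply_apply, sub_self]⟩

theorem f_mem_g (i : ι) : b.f i ∈ g H (-b.baseSupp i) := by
  simp only [g, LieSubmodule.mem_toSubmodule, LieModule.mem_genWeightSpace]
  exact fun h => ⟨1, by
    rw [pow_one, LinearMap.sub_apply, LinearMap.smul_apply, Module.End.one_apply,
      LieModule.toEnd_apply_apply, LinearMap.coe_neg, Pi.neg_apply, neg_smul, b.baseSupp_apply_smul_f,
      neg_neg, sub_self]⟩

theorem g_indep (H : LieSubalgebra K L) [LieRing.IsNilpotent H] :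
    iSupIndep fun χ : H → K => (rootSpace H χ).toSubmodule :=
  LieSubmodule.iSupIndep_toSubmodule.2 (LieModule.iSupIndep_genWeightSpace K H L)

/-- The weight `ρ - ∑ nᵢ αᵢ`. -/
noncomputable def wt (ρ : Dual K H) (n : ι → ℕ) : Dual K H := ρ - ∑ i, (n i : K) • b.baseSupp i

theorem wt_zero (ρ : Dual K H) : wt b ρ 0 = ρ := by simp [wt]

theorem sum_single [DecidableEq ι] (i : ι) :
    ∑ k, ((Pi.single i 1 : ι → ℕ) k : K) • b.baseSupp k = b.baseSupp i := by
  simp [Pi.single_apply]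

theorem wt_add (ρ : Dual K H) (n m : ι → ℕ) :
    wt b ρ (n + m) = wt b (wt b ρ n) m := by
  simp [wt, add_smul, Finset.sum_add_distrib, sub_sub]

theorem wt_single [DecidableEq ι] (ρ : Dual K H) (i : ι) : wt b ρ (Pi.single i 1) = ρ - b.baseSupp i := by
  rw [wt, sum_single]

theorem wt_injective (ρ : Dual K H) : Function.Injective (wt b ρ) := by
  intro n m h
  have h' : ∑ i, (n i : K) • b.baseSupp i = ∑ i, (m i : K) • b.baseSupp i := sub_right_injective h
  funext i
  exact_mod_cast Fintype.linearIndependent_iffₛ.1 b.linearIndependent_baseSupp _ _ h' i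

theorem f_maps_wt [DecidableEq ι] (χ : Dual K H) (n : ι → ℕ) (i : ι) {y : L} (hy : y ∈ g H (wt b χ n)) :
    ⁅b.f i, y⁆ ∈ g H (wt b χ (n + Pi.single i 1)) :=
  lie_mem_g (f_mem_g b i) hy (by rw [wt_add, wt_single]; abel)

theorem lie_mem_of_iSup {κ : Type*} {N : κ → Submodule K L} {M : Submodule K L} {a y : L}
    (h : ∀ k, ∀ z ∈ N k, ⁅a, z⁆ ∈ M) (hy : y ∈ ⨆ k, N k) : ⁅a, y⁆ ∈ M := by
  have : (⨆ k, N k) ≤ M.comap (LieAlgebra.ad K L a) := iSup_le fun k z hz => h k z hz
  exact this hy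

variable [IsAlgClosed K] [LieAlgebra.IsSimple K L] {ρ : Dual K H}

/-- All weights lie below the weight of a singular vector. -/
theorem top_le_below {χ : Dual K H} {x : L} (hx0 : x ≠ 0) (hx : x ∈ g H χ) (he : ∀ i, ⁅b.e i, x⁆ = 0) :
    ⊤ ≤ ⨆ n : ι → ℕ, g H (wt b χ n) := by
  classical
  let X : Set L := {z | z ∈ g H χ ∧ ∀ i, ⁅b.e i, z⁆ = 0}
  rw [← down_eq_top b (X := X) ⟨x, ⟨hx, he⟩, hx0⟩ (fun h z hz => subset_down b X ⟨?_, fun i => ?_⟩)
    (fun i z hz => hz.2 i)]
  · refine down_le b (fun z hz => Submodule.mem_iSup_of_mem 0 (by rw [wt_zero]; exact hz.1)) fun i y hy => ?_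
    exact lie_mem_of_iSup (fun n z hz => Submodule.mem_iSup_of_mem _ (f_maps_wt b χ n i hz)) hy
  · exact (rootSpace H (χ : H → K)).lie_mem (x := h) hz.1
  · rw [leibniz_lie, e_lie_h, neg_lie, smul_lie, hz.2 i, lie_zero, smul_zero, neg_zero, add_zero]

theorem eq_bot_of_forall_ne {f : H → K} {κ : Type*} (c : κ → Dual K H)
    (htop : ⊤ ≤ ⨆ k, g H (c k)) (hf : ∀ k, f ≠ ⇑(c k)) : rootSpace H f = ⊥ := by
  rw [← LieSubmodule.toSubmodule_eq_bot]
  have hd := g_indep H f
  have h2 : (⊤ : Submodule K L) ≤ ⨆ (j : H → K) (_ : j ≠ f), (rootSpace H j).toSubmodule :=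
    htop.trans (iSup_le fun k => le_iSup₂_of_le (f := fun (j : H → K) (_ : j ≠ f) => (rootSpace H j).toSubmodule)
      (⇑(c k)) (hf k).symm le_rfl)
  exact (disjoint_top.1 (hd.mono_right h2))

/-- A highest root together with what is needed about it. -/
structure High (ρ : Dual K H) : Prop where
  ne : g H ρ ≠ ⊥
  top : ∀ i, g H (ρ + b.baseSupp i) = ⊥

variable {b}
variable (hρ : High b ρ)
include hρ

theorem High.e_kill (i : ι) {x : L} (hx : x ∈ g H ρ) : ⁅b.e i, x⁆ = 0 := by
  have := lie_mem_g (e_mem_g b i) hx (add_comm _ _)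
  rwa [hρ.top i, Submodule.mem_bot] at this

theorem High.exists_vec : ∃ x ∈ g H ρ, x ≠ 0 := Submodule.exists_mem_ne_zero_of_ne_bot hρ.ne

theorem High.exists_n {f : H → K} (hf : rootSpace H f ≠ ⊥) : ∃ n, f = ⇑(wt b ρ n) := by
  obtain ⟨x, hx, hx0⟩ := hρ.exists_vec
  by_contra! h
  exact hf (eq_bot_of_forall_ne _ (top_le_below b hx0 hx fun i => hρ.e_kill i hx) h)

/-- A singular vector has the highest weight. -/
theorem High.eq_zero_of_singular {n : ι → ℕ} {x : L} (hx0 : x ≠ 0) (hx : x ∈ g H (wt b ρ n))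
    (he : ∀ i, ⁅b.e i, x⁆ = 0) : n = 0 := by
  have h : ∃ m, ρ = wt b (wt b ρ n) m := by
    by_contra! h
    refine hρ.ne ((LieSubmodule.toSubmodule_eq_bot _).2
      (eq_bot_of_forall_ne _ (top_le_below b hx0 hx he) fun m hm => h m (DFunLike.coe_injective hm)))
  obtain ⟨m, hm⟩ := h
  rw [← wt_add] at hm
  nth_rw 1 [← wt_zero b ρ] at hm
  funext i
  have := congrFun (wt_injective b ρ hm) i
  simp only [Pi.zero_apply, Pi.add_apply] at this ⊢
  omega

variable [IsLieAbelian H]

theorem High.exists_eigen : ∃ x : L, x ≠ 0 ∧ x ∈ g H ρ ∧ ∀ h : H, ⁅(h : L), x⁆ = ρ h • x := by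
  have hne : genWeightSpace L (ρ : H → K) ≠ ⊥ := fun h => hρ.ne ((LieSubmodule.toSubmodule_eq_bot _).2 h)
  obtain ⟨x, hx0, hx⟩ := LieModule.exists_forall_lie_eq_smul K H L (⟨ρ, hne⟩ : Weight K H L)
  refine ⟨x, hx0, ?_, fun h => hx h⟩
  simp only [g, LieSubmodule.mem_toSubmodule, LieModule.mem_genWeightSpace]
  exact fun h => ⟨1, by simpa [sub_eq_zero] using hx h⟩

variable (b) in
/-- The line through a highest weight vector, the first two steps below it, and the rest. -/
noncomputable def bound (ρ : Dual K H) (x : L) : Submodule K L :=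
  Submodule.span K {x} ⊔ (⨆ k, Submodule.span K {⁅b.f k, x⁆}) ⊔
    (⨆ kl : ι × ι, Submodule.span K {⁅b.f kl.1, ⁅b.f kl.2, x⁆⁆}) ⊔
    ⨆ (n : ι → ℕ) (_ : 3 ≤ ∑ i, n i), g H (wt b ρ n)

theorem High.top_le_bound {x : L} (hx0 : x ≠ 0) (hx : x ∈ g H ρ) (hh : ∀ h : H, ⁅(h : L), x⁆ = ρ h • x) :
    ⊤ ≤ bound b ρ x := by
  classical
  rw [← down_eq_top b (X := {x}) ⟨x, rfl, hx0⟩ (fun h z hz => by
      rw [Set.mem_singleton_iff.1 hz, hh]; exact Submodule.smul_mem _ _ (subset_down b _ rfl))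
    (fun i z hz => by rw [Set.mem_singleton_iff.1 hz]; exact hρ.e_kill i hx)]
  refine down_le b (Set.singleton_subset_iff.2 ?_) fun i y hy => ?_
  · exact Submodule.mem_sup_left (Submodule.mem_sup_left (Submodule.mem_sup_left
      (Submodule.mem_span_singleton_self x)))
  · suffices bound b ρ x ≤ (bound b ρ x).comap (LieAlgebra.ad K L (b.f i)) from this hy
    refine sup_le (sup_le (sup_le ?_ (iSup_le fun k => ?_)) (iSup_le fun kl => ?_)) (iSup₂_le fun n hn => ?_)
    · refine (Submodule.span_singleton_le_iff_mem _ _).2 ?_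
      exact Submodule.mem_sup_left (Submodule.mem_sup_left (Submodule.mem_sup_right
        (Submodule.mem_iSup_of_mem i (Submodule.mem_span_singleton_self _))))
    · refine (Submodule.span_singleton_le_iff_mem _ _).2 ?_
      exact Submodule.mem_sup_left (Submodule.mem_sup_right
        (Submodule.mem_iSup_of_mem (i, k) (Submodule.mem_span_singleton_self _)))
    · refine (Submodule.span_singleton_le_iff_mem _ _).2 ?_
      refine Submodule.mem_sup_right ?_
      have h1 := f_maps_wt b ρ 0 kl.2 (by rwa [wt_zero] : x ∈ g H (wt b ρ 0))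
      have h2 := f_maps_wt b ρ _ kl.1 h1
      have h3 := f_maps_wt b ρ _ i h2
      refine Submodule.mem_iSup_of_mem _ (Submodule.mem_iSup_of_mem ?_ h3)
      simp [Finset.sum_add_distrib]
    · intro z hz
      refine Submodule.mem_sup_right (Submodule.mem_iSup_of_mem _
        (Submodule.mem_iSup_of_mem ?_ (f_maps_wt b ρ n i hz)))
      simp [Finset.sum_add_distrib]; omega

/-- A root space near the top is spanned by the obvious vectors. -/
theorem High.g_le [DecidableEq ι] {x : L} (hx0 : x ≠ 0) (hx : x ∈ g H ρ) (hh : ∀ h : H, ⁅(h : L), x⁆ = ρ h • x)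
    (μ : ι → ℕ) (hμ : ∑ i, μ i ≤ 2) (A : Submodule K L) (hA : A ≤ g H (wt b ρ μ))
    (h0 : μ = 0 → x ∈ A)
    (h1 : ∀ k, μ = Pi.single k 1 → ⁅b.f k, x⁆ ∈ A)
    (h2 : ∀ k l, μ = Pi.single l 1 + Pi.single k 1 → ⁅b.f k, ⁅b.f l, x⁆⁆ ∈ A) :
    g H (wt b ρ μ) ≤ A := by
  set R : Submodule K L := ⨆ (j : H → K) (_ : j ≠ ⇑(wt b ρ μ)), (rootSpace H j).toSubmodule
  have hR : ∀ n, n ≠ μ → g H (wt b ρ n) ≤ R := fun n hn =>
    le_iSup₂_of_le (f := fun (j : H → K) (_ : j ≠ ⇑(wt b ρ μ)) => (rootSpace H j).toSubmodule) (⇑(wt b ρ n))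
      (fun h => hn (wt_injective b ρ (DFunLike.coe_injective h))) le_rfl
  have key : (⊤ : Submodule K L) ≤ A ⊔ R := by
    refine (hρ.top_le_bound hx0 hx hh).trans (sup_le (sup_le (sup_le ?_ (iSup_le fun k => ?_))
      (iSup_le fun kl => ?_)) (iSup₂_le fun n hn => le_sup_of_le_right (hR n (by rintro rfl; omega))))
    · rw [Submodule.span_singleton_le_iff_mem]
      by_cases h : μ = 0
      · exact Submodule.mem_sup_left (h0 h)
      · exact Submodule.mem_sup_right (hR 0 (Ne.symm h) (by rwa [wt_zero]))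
    · rw [Submodule.span_singleton_le_iff_mem]
      have hk := f_maps_wt b ρ 0 k (by rwa [wt_zero] : x ∈ g H (wt b ρ 0))
      rw [zero_add] at hk
      by_cases h : μ = Pi.single k 1
      · exact Submodule.mem_sup_left (h1 k h)
      · exact Submodule.mem_sup_right (hR _ (Ne.symm h) hk)
    · rw [Submodule.span_singleton_le_iff_mem]
      have hk := f_maps_wt b ρ 0 kl.2 (by rwa [wt_zero] : x ∈ g H (wt b ρ 0))
      rw [zero_add] at hk
      have hkl := f_maps_wt b ρ _ kl.1 hk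
      by_cases h : μ = Pi.single kl.2 1 + Pi.single kl.1 1
      · exact Submodule.mem_sup_left (h2 _ _ h)
      · exact Submodule.mem_sup_right (hR _ (Ne.symm h) hkl)
  intro z hz
  obtain ⟨a, ha, r, hr, rfl⟩ := Submodule.mem_sup.1 (key (Submodule.mem_top (x := z)))
  have : r ∈ g H (wt b ρ μ) := by simpa using Submodule.sub_mem _ hz (hA ha)
  rw [(Submodule.disjoint_def.1 (g_indep H ⇑(wt b ρ μ))) r this hr, add_zero]
  exact ha

end Groth.Agent.AdjVarLib
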