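import Groth.Agent.AdjVarLib.Basic
import Mathlib.LinearAlgebra.Dimension.Finite

/-!
# Borel stable lines and planes in the adjoint variety
-/

set_option autoImplicit false
set_option backward.isDefEq.respectTransparency false
set_option backward.isDefEq.respectTransparency.types false

universe u v w

open LieAlgebra LieModule Module

namespace Groth.Agent.AdjVarLib

variable {ι : Type u} {K : Type v} {L : Type w} [Fintype ι] [Field K] [LieRing L] [LieAlgebra K L]
variable {H : LieSubalgebra K L} {b : LieAlgebra.Basis ι H}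
variable [CharZero K] [FiniteDimensional K L] [LieRing.IsNilpotent H]
variable [IsAlgClosed K] [LieAlgebra.IsSimple K L] [IsLieAbelian H]

/-- Setting: a highest root orthogonal to all simple roots but one, with a highest weight vector. -/
structure Adj (b : LieAlgebra.Basis ι H) (ρ : Dual K H) (j : ι) (x : L) : Prop where
  high : High b ρ
  hN : ∀ i, ρ (b.h' i) ≠ 0 ↔ i = j
  hj : ρ (b.h' j) = 1
  x_ne : x ≠ 0
  x_mem : x ∈ g H ρ
  hh : ∀ h : H, ⁅(h : L), x⁆ = ρ h • x

variable {ρ : Dual K H} {j : ι} {x : L}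

theorem lie_e_f [DecidableEq ι] (k i : ι) :
    ⁅b.e k, b.f i⁆ = if k = i then ((b.h' i : H) : L) else 0 := by
  split_ifs with h
  · subst h; exact (b.sl2 k).lie_e_f
  · exact b.lie_e_f_ne k i h

variable (a : Adj b ρ j x)
include a

theorem Adj.e_x (i : ι) : ⁅b.e i, x⁆ = 0 := a.high.e_kill i a.x_mem

theorem Adj.e_fx [DecidableEq ι] (k i : ι) : ⁅b.e k, ⁅b.f i, x⁆⁆ = if k = i then ρ (b.h' i) • x else 0 := by
  rw [leibniz_lie, lie_e_f, a.e_x, lie_zero, add_zero]
  split_ifs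
  · exact a.hh _
  · exact zero_lie _

theorem Adj.fx_eq_zero {i : ι} (hi : i ≠ j) : ⁅b.f i, x⁆ = 0 := by
  classical
  by_contra h
  have hm := f_maps_wt b ρ 0 i (by rw [wt_zero]; exact a.x_mem : x ∈ g H (wt b ρ 0))
  rw [zero_add] at hm
  have h0 : ρ (b.h' i) = 0 := not_not.1 (mt (a.hN i).1 hi)
  have := congrFun (a.high.eq_zero_of_singular h hm fun k => by rw [a.e_fx]; split_ifs <;> simp [h0]) i
  simp at this

theorem Adj.e_y [DecidableEq ι] (k : ι) : ⁅b.e k, ⁅b.f j, x⁆⁆ = if k = j then x else 0 := by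
  rw [a.e_fx, a.hj, one_smul]

theorem Adj.y_ne : ⁅b.f j, x⁆ ≠ 0 := fun h => a.x_ne (by
  classical
  have := a.e_y j
  rwa [h, lie_zero, if_pos rfl, eq_comm] at this)

theorem Adj.h_y (h : H) : ⁅(h : L), ⁅b.f j, x⁆⁆ = (ρ h - b.baseSupp j h) • ⁅b.f j, x⁆ := by
  rw [leibniz_lie, h_lie_f, a.hh, neg_lie, smul_lie, lie_smul, sub_smul]
  abel

theorem Adj.e_z [DecidableEq ι] (k i : ι) : ⁅b.e k, ⁅b.f i, ⁅b.f j, x⁆⁆⁆ =
    (if k = i then (ρ (b.h' i) - (b.A j i : K)) • ⁅b.f j, x⁆ else 0) + (if k = j then ⁅b.f i, x⁆ else 0) := by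
  rw [leibniz_lie, lie_e_f, a.e_y]
  congr 1
  · split_ifs
    · rw [a.h_y, b.baseSupp_apply_h']
    · exact zero_lie _
  · split_ifs
    · rfl
    · exact lie_zero _

theorem Adj.e_z_self {i : ι} (hi : i ≠ j) :
    ⁅b.e i, ⁅b.f i, ⁅b.f j, x⁆⁆⁆ = -(b.A j i : K) • ⁅b.f j, x⁆ := by
  classical
  rw [a.e_z, if_pos rfl, if_neg hi, add_zero, not_not.1 (mt (a.hN i).1 hi), zero_sub]

theorem Adj.z_eq_zero {i : ι} (h : i = j ∨ b.A j i = 0) : ⁅b.f i, ⁅b.f j, x⁆⁆ = 0 := by
  classical
  by_contra hne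
  have h1 := f_maps_wt b ρ 0 j (by rw [wt_zero]; exact a.x_mem : x ∈ g H (wt b ρ 0))
  have h2 := f_maps_wt b ρ _ i h1
  rw [zero_add] at h2
  have := congrFun (a.high.eq_zero_of_singular hne h2 fun k => ?_) i
  · simp at this
  · rw [a.e_z]
    by_cases hij : i = j
    · subst hij
      split_ifs
      · haveI : IsAddTorsionFree L := .of_isTorsionFree K L
        rw [a.hj, LieAlgebra.Basis.A_diag_eq_two]
        push_cast
        norm_num
        rw [← lie_skew x (b.f i), neg_add_cancel]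
      · rw [add_zero]
    · rw [a.fx_eq_zero hij, h.resolve_left hij, not_not.1 (mt (a.hN i).1 hij)]
      simp

theorem Adj.g_rho_le : g H ρ ≤ Submodule.span K {x} := by
  classical
  have := a.high.g_le a.x_ne a.x_mem a.hh 0 (by simp) (Submodule.span K {x})
    (by rw [wt_zero, Submodule.span_singleton_le_iff_mem]; exact a.x_mem)
    (fun _ => Submodule.mem_span_singleton_self x)
    (fun k h => by simpa using congrFun h k) (fun k l h => by simpa using congrFun h k)
  rwa [wt_zero] at this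

theorem Adj.g_one_le [DecidableEq ι] (i : ι) :
    g H (wt b ρ (Pi.single i 1)) ≤ Submodule.span K {⁅b.f i, x⁆} := by
  refine a.high.g_le a.x_ne a.x_mem a.hh _ (by simp) _ ?_ (fun h => absurd (congrFun h i) (by simp))
    (fun k h => ?_) (fun k l h => ?_)
  · rw [Submodule.span_singleton_le_iff_mem]
    have := f_maps_wt b ρ 0 i (by rw [wt_zero]; exact a.x_mem : x ∈ g H (wt b ρ 0))
    rwa [zero_add] at this
  · have : k = i := by
      by_contra hk
      have := congrFun h k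
      simp [Pi.single_apply, hk] at this
    rw [this]; exact Submodule.mem_span_singleton_self _
  · have := congrArg (fun v : ι → ℕ => ∑ m, v m) h
    simp [Finset.sum_add_distrib, Pi.single_apply] at this

theorem Adj.g_two_le [DecidableEq ι] (i : ι) :
    g H (wt b ρ (Pi.single j 1 + Pi.single i 1)) ≤ Submodule.span K {⁅b.f i, ⁅b.f j, x⁆⁆} := by
  refine a.high.g_le a.x_ne a.x_mem a.hh _ (by simp [Finset.sum_add_distrib]) _ ?_
    (fun h => absurd (congrFun h i) (by simp)) (fun k h => ?_) (fun k l h => ?_)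
  · rw [Submodule.span_singleton_le_iff_mem]
    have := f_maps_wt b ρ 0 j (by rw [wt_zero]; exact a.x_mem : x ∈ g H (wt b ρ 0))
    rw [zero_add] at this
    exact f_maps_wt b ρ _ i this
  · have := congrArg (fun v : ι → ℕ => ∑ m, v m) h
    simp [Finset.sum_add_distrib, Pi.single_apply] at this
  · by_cases hl : l = j
    · subst hl
      have : k = i := by
        by_contra hk
        have := congrFun h k
        simp [Pi.single_apply, hk] at this
      rw [this]; exact Submodule.mem_span_singleton_self _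
    · rw [a.fx_eq_zero hl, lie_zero]; exact Submodule.zero_mem _

theorem Adj.g_rho_eq : g H ρ = Submodule.span K {x} :=
  le_antisymm a.g_rho_le ((Submodule.span_singleton_le_iff_mem _ _).2 a.x_mem)

theorem Adj.g_y_eq : g H (ρ - b.baseSupp j) = Submodule.span K {⁅b.f j, x⁆} := by
  classical
  refine le_antisymm (by rw [← wt_single]; exact a.g_one_le j) ((Submodule.span_singleton_le_iff_mem _ _).2 ?_)
  rw [← wt_single]
  have := f_maps_wt b ρ 0 j (by rw [wt_zero]; exact a.x_mem : x ∈ g H (wt b ρ 0))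
  rwa [zero_add] at this

theorem Adj.g_z_eq (i : ι) :
    g H (ρ - b.baseSupp j - b.baseSupp i) = Submodule.span K {⁅b.f i, ⁅b.f j, x⁆⁆} := by
  classical
  have e : ρ - b.baseSupp j - b.baseSupp i = wt b ρ (Pi.single j 1 + Pi.single i 1) := by
    rw [wt_add, wt_single, wt_single]
  rw [e]
  refine le_antisymm (a.g_two_le i) ((Submodule.span_singleton_le_iff_mem _ _).2 ?_)
  have := f_maps_wt b ρ 0 j (by rw [wt_zero]; exact a.x_mem : x ∈ g H (wt b ρ 0))
  rw [zero_add] at this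
  exact f_maps_wt b ρ _ i this

theorem Adj.linInd_pair (c d : K) (h : c • x + d • ⁅b.f j, x⁆ = 0) : c = 0 ∧ d = 0 := by
  classical
  have h' := congrArg (fun v => ⁅b.e j, v⁆) h
  simp only [lie_add, lie_smul, a.e_x, a.e_y, if_true, smul_zero, zero_add, lie_zero] at h'
  have hd : d = 0 := (smul_eq_zero.1 h').resolve_right a.x_ne
  refine ⟨(smul_eq_zero.1 (?_ : c • x = 0)).resolve_right a.x_ne, hd⟩
  simpa [hd] using h

theorem Adj.finrank_pair : finrank K (Submodule.span K (Set.range ![x, ⁅b.f j, x⁆]) : Submodule K L) = 2 := by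
  rw [finrank_span_eq_card]
  · simp
  · exact LinearIndependent.pair_iff.2 a.linInd_pair

theorem Adj.linInd_triple {i : ι} (hi : i ≠ j) (hA : b.A j i ≠ 0) :
    LinearIndependent K ![x, ⁅b.f j, x⁆, ⁅b.f i, ⁅b.f j, x⁆⁆] := by
  classical
  rw [Fintype.linearIndependent_iff]
  intro c hc k
  simp only [Fin.sum_univ_three, Matrix.cons_val_zero, Matrix.cons_val_one, Matrix.cons_val] at hc
  have h' := congrArg (fun v => ⁅b.e i, v⁆) hc
  simp only [lie_add, lie_smul, a.e_x, a.e_y, if_neg hi, a.e_z_self hi, smul_zero, zero_add, lie_zero,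
    smul_smul, smul_eq_zero, a.y_ne, or_false, mul_eq_zero, neg_eq_zero, Int.cast_eq_zero, hA] at h'
  rw [h', zero_smul, add_zero] at hc
  obtain ⟨h0, h1⟩ := a.linInd_pair _ _ hc
  fin_cases k
  · exact h0
  · exact h1
  · exact h'

omit a

/-- A subspace stable under the upper Borel subalgebra. -/
structure Stable (b : LieAlgebra.Basis ι H) (W : Submodule K L) : Prop where
  he : ∀ i, ∀ w ∈ W, ⁅b.e i, w⁆ ∈ W
  hH : ∀ h : H, ∀ w ∈ W, ⁅(h : L), w⁆ ∈ W

theorem stable_of (W : Submodule K L)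
    (hst : ∀ z ∈ H.toSubmodule ⊔ (b.borelUpper : Submodule K L), ∀ w ∈ W, ⁅z, w⁆ ∈ W) : Stable b W :=
  ⟨fun i w hw => hst _ (Submodule.mem_sup_right (LieSubalgebra.subset_lieSpan ⟨i, rfl⟩)) w hw,
    fun h w hw => hst _ (Submodule.mem_sup_left h.2) w hw⟩

theorem of_stable {W : Submodule K L} (hW : Stable b W) :
    ∀ z ∈ H.toSubmodule ⊔ (b.borelUpper : Submodule K L), ∀ w ∈ W, ⁅z, w⁆ ∈ W := by
  intro z hz
  obtain ⟨h, hh, n, hn, rfl⟩ := Submodule.mem_sup.1 hz
  have h1 : n ∈ stab W :=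
    (LieSubalgebra.lieSpan_le.2 (by rintro _ ⟨i, rfl⟩; exact hW.he i) :
      LieSubalgebra.lieSpan K L (Set.range b.e) ≤ stab W) hn
  intro w hw
  rw [add_lie]
  exact W.add_mem (hW.hH ⟨h, hh⟩ w hw) (h1 w hw)

/-- A stable subspace not contained in given top weight spaces contains a weight vector just below them. -/
theorem Stable.exists_new [DecidableEq ι] (hρ : High b ρ) {W : Submodule K L} (hW : Stable b W)
    (T : Set (ι → ℕ)) (hT : ¬ W ≤ ⨆ n ∈ T, g H (wt b ρ n)) :
    ∃ n, n ∉ T ∧ ∃ z ∈ W, z ≠ 0 ∧ z ∈ g H (wt b ρ n) ∧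
      ∀ i, ⁅b.e i, z⁆ ≠ 0 → ∃ m ∈ T, n = m + Pi.single i 1 := by
  classical
  let Wl : LieSubmodule K H L := { W with lie_mem := fun {h w} hw => hW.hH h w hw }
  have hex : ∃ n, n ∉ T ∧ ∃ z ∈ W, z ≠ 0 ∧ z ∈ g H (wt b ρ n) := by
    by_contra hno
    push Not at hno
    refine hT fun w hw => ?_
    have hw' : w ∈ ⨆ χ : Weight K H L, Wl ⊓ genWeightSpace L χ := by
      rw [← LieModule.eq_iSup_inf_genWeightSpace]; exact hw
    rw [← LieSubmodule.mem_toSubmodule, LieSubmodule.iSup_toSubmodule] at hw'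
    refine (iSup_le fun χ => ?_ : (⨆ χ : Weight K H L, (Wl ⊓ genWeightSpace L χ).toSubmodule) ≤ _) hw'
    obtain ⟨n, hn⟩ := hρ.exists_n (f := χ) χ.genWeightSpace_ne_bot
    intro z hz
    obtain ⟨hz1, hz2⟩ := hz
    by_cases hnT : n ∈ T
    · refine Submodule.mem_iSup_of_mem n (Submodule.mem_iSup_of_mem hnT ?_)
      simp only [g, LieSubmodule.mem_toSubmodule, ← hn]
      exact hz2
    · by_cases hz0 : z = 0
      · rw [hz0]; exact Submodule.zero_mem _
      · refine absurd ?_ (hno n hnT z hz1 hz0)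
        simp only [g, LieSubmodule.mem_toSubmodule, ← hn]
        exact hz2
  have hex' : ∃ d, ∃ n, ∑ i, n i = d ∧ n ∉ T ∧ ∃ z ∈ W, z ≠ 0 ∧ z ∈ g H (wt b ρ n) := by
    obtain ⟨n, h⟩ := hex; exact ⟨_, n, rfl, h⟩
  obtain ⟨n, hnd, hnT, z, hzW, hz0, hz⟩ := Nat.find_spec hex'
  refine ⟨n, hnT, z, hzW, hz0, hz, fun i hi => ?_⟩
  have h1 := lie_mem_g (e_mem_g b i) hz rfl
  obtain ⟨m, hm⟩ := hρ.exists_n (f := ⇑(b.baseSupp i + wt b ρ n)) (fun h => hi (by
    have h2 : g H (b.baseSupp i + wt b ρ n) = ⊥ := (LieSubmodule.toSubmodule_eq_bot _).2 h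
    rwa [h2, Submodule.mem_bot] at h1))
  have hm' := DFunLike.coe_injective hm
  have hnm : n = m + Pi.single i 1 := wt_injective b ρ (by rw [wt_add, wt_single, ← hm']; abel)
  refine ⟨m, ?_, hnm⟩
  by_contra hmT
  refine Nat.find_min hex' (m := ∑ k, m k) ?_ ⟨m, rfl, hmT, ⁅b.e i, z⁆, hW.he i z hzW, hi, ?_⟩
  · rw [← hnd, hnm]; simp [Finset.sum_add_distrib]
  · rwa [← hm']

include a

theorem Adj.x_mem_of_stable {W : Submodule K L} (hW : Stable b W) (hne : W ≠ ⊥) : x ∈ W := by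
  classical
  obtain ⟨n, -, z, hzW, hz0, hz, he⟩ := hW.exists_new a.high ∅ (by simpa using hne)
  have hn : n = 0 := a.high.eq_zero_of_singular hz0 hz fun i => by
    by_contra h; obtain ⟨m, hm, -⟩ := he i h; exact hm
  rw [hn, wt_zero] at hz
  obtain ⟨c, rfl⟩ := Submodule.mem_span_singleton.1 (a.g_rho_le hz)
  exact (W.smul_mem_iff (left_ne_zero_of_smul hz0)).1 hzW

theorem Adj.y_mem_of_stable {W : Submodule K L} (hW : Stable b W) (hr : 1 < finrank K W) :
    ⁅b.f j, x⁆ ∈ W := by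
  classical
  have hT : ¬ W ≤ ⨆ n ∈ ({0} : Set (ι → ℕ)), g H (wt b ρ n) := by
    rw [iSup_singleton, wt_zero, a.g_rho_eq]
    intro h
    have := Submodule.finrank_mono h
    rw [finrank_span_singleton a.x_ne] at this
    omega
  obtain ⟨n, hnT, z, hzW, hz0, hz, he⟩ := hW.exists_new a.high {0} hT
  obtain ⟨i, hi⟩ : ∃ i, ⁅b.e i, z⁆ ≠ 0 := by
    by_contra! h
    exact hnT (a.high.eq_zero_of_singular hz0 hz h)
  obtain ⟨m, hm, hnm⟩ := he i hi
  rw [Set.mem_singleton_iff.1 hm, zero_add] at hnm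
  rw [hnm] at hz
  obtain ⟨c, rfl⟩ := Submodule.mem_span_singleton.1 (a.g_one_le i hz)
  by_cases hij : i = j
  · subst hij; exact (W.smul_mem_iff (left_ne_zero_of_smul hz0)).1 hzW
  · exact absurd (by rw [a.fx_eq_zero hij, smul_zero]) hz0

theorem Adj.pair_le {W : Submodule K L} (hW : Stable b W) (hr : 1 < finrank K W) :
    Submodule.span K (Set.range ![x, ⁅b.f j, x⁆]) ≤ W := by
  rw [Submodule.span_le, Matrix.range_cons, Matrix.range_cons, Matrix.range_empty]
  simp only [Set.union_empty, Set.union_subset_iff, Set.singleton_subset_iff]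
  exact ⟨a.x_mem_of_stable hW (fun h => by rw [h, finrank_bot] at hr; omega), a.y_mem_of_stable hW hr⟩

theorem Adj.span_pair_eq : Submodule.span K (Set.range ![x, ⁅b.f j, x⁆]) = g H ρ ⊔ g H (ρ - b.baseSupp j) := by
  rw [a.g_rho_eq, a.g_y_eq, Matrix.range_cons, Matrix.range_cons, Matrix.range_empty, Set.union_empty,
    Submodule.span_union]

/-- Borel stable planes of the projectivisation. -/
theorem Adj.exists_triple {W : Submodule K L} (hW : Stable b W) (hr : finrank K W = 3) :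
    ∃ i, i ≠ j ∧ b.A j i ≠ 0 ∧
      W = Submodule.span K (Set.range ![x, ⁅b.f j, x⁆, ⁅b.f i, ⁅b.f j, x⁆⁆]) := by
  classical
  have hT : ¬ W ≤ ⨆ n ∈ ({0, Pi.single j 1} : Set (ι → ℕ)), g H (wt b ρ n) := by
    rw [iSup_pair, wt_zero, wt_single, ← a.span_pair_eq]
    intro h
    have := Submodule.finrank_mono h
    rw [a.finrank_pair] at this
    omega
  obtain ⟨n, hnT, z, hzW, hz0, hz, he⟩ := hW.exists_new a.high _ hT
  obtain ⟨i, hi⟩ : ∃ i, ⁅b.e i, z⁆ ≠ 0 := by
    by_contra! h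
    exact hnT (Or.inl (a.high.eq_zero_of_singular hz0 hz h))
  obtain ⟨m, hm, rfl⟩ := he i hi
  rcases hm with rfl | hm
  · exfalso
    rw [zero_add] at hz hnT
    obtain ⟨c, rfl⟩ := Submodule.mem_span_singleton.1 (a.g_one_le i hz)
    by_cases hij : i = j
    · subst hij; exact hnT (Or.inr rfl)
    · exact hz0 (by rw [a.fx_eq_zero hij, smul_zero])
  rw [Set.mem_singleton_iff.1 hm] at hz
  obtain ⟨c, rfl⟩ := Submodule.mem_span_singleton.1 (a.g_two_le i hz)
  have hij : i ≠ j := fun h => hz0 (by rw [a.z_eq_zero (Or.inl h), smul_zero])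
  have hA : b.A j i ≠ 0 := fun h => hz0 (by rw [a.z_eq_zero (Or.inr h), smul_zero])
  refine ⟨i, hij, hA, (Submodule.eq_of_le_of_finrank_eq ?_ ?_).symm⟩
  · rw [Submodule.span_le, Set.range_subset_iff]
    intro k
    fin_cases k
    · exact a.x_mem_of_stable hW (fun h => by rw [h, finrank_bot] at hr; omega)
    · exact a.y_mem_of_stable hW (by omega)
    · exact (W.smul_mem_iff (left_ne_zero_of_smul hz0)).1 hzW
  · rw [hr, finrank_span_eq_card (a.linInd_triple hij hA)]
    simp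

omit a in
theorem A_ne_zero_symm {i k : ι} (hik : i ≠ k) (h : b.A i k = 0) : b.A k i = 0 := by
  have P : ((b.sl2 k).symm).HasPrimitiveVectorWith (b.e i) (0 : K) :=
    { ne_zero := (b.sl2 i).e_ne_zero
      lie_h := by rw [neg_lie, b.lie_h_e, h]; simp
      lie_e := by rw [← lie_skew, b.lie_e_f_ne i k hik, neg_zero] }
  have h1 := P.pow_toEnd_f_eq_zero_of_eq_nat (n := 0) (by simp)
  simp only [zero_add, pow_one, LieModule.toEnd_apply_apply] at h1
  have h2 := congrArg (fun v => ⁅b.f i, v⁆) h1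
  simp only [leibniz_lie (b.f i), lie_zero] at h2
  have h3 : ⁅b.f i, b.e i⁆ = -b.h i := by rw [← lie_skew, (b.sl2 i).lie_e_f]
  have h4 : ⁅b.f i, b.e k⁆ = 0 := by rw [← lie_skew, b.lie_e_f_ne k i hik.symm, neg_zero]
  rw [h3, h4, zero_lie, zero_add, lie_neg, lie_skew, b.lie_h_e, ← Int.cast_smul_eq_zsmul K,
    smul_eq_zero] at h2
  exact_mod_cast h2.resolve_right (b.sl2 k).e_ne_zero

omit a in
/-- A semi-invariant quadratic form of a nilpotent operator kills the bottom of a Jordan block. -/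
theorem quad_vanish {V : Type*} [AddCommGroup V] [Module K V] (q : QuadraticForm K V) (E : V →ₗ[K] V)
    (c : K) (hE : ∀ v, QuadraticMap.polar q (E v) v = c * q v) (p p' r : V) (s : K) (hs : s ≠ 0)
    (hp : E p = 0) (hp' : E p' = s • p) (hr : E r = 0) :
    q p = 0 ∧ QuadraticMap.polar q p p' = 0 ∧ QuadraticMap.polar q p r = 0 := by
  have e : ∀ v, QuadraticMap.polar q (E v) v = c * q v := hE
  have hqp := e p
  rw [hp, QuadraticMap.polar_zero_left] at hqp
  have hqp' := e p'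
  rw [hp', QuadraticMap.polar_smul_left, smul_eq_mul] at hqp'
  have hqr := e r
  rw [hr, QuadraticMap.polar_zero_left] at hqr
  have h1 := e (p + p')
  rw [map_add, hp, hp', zero_add, QuadraticMap.polar_smul_left, QuadraticMap.polar_add_right,
    QuadraticMap.polar_self, QuadraticMap.map_add q, smul_eq_mul, nsmul_eq_mul] at h1
  have h2 := e (p' + r)
  rw [map_add, hp', hr, add_zero, QuadraticMap.polar_smul_left, QuadraticMap.polar_add_right,
    QuadraticMap.map_add q, smul_eq_mul] at h2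
  have h3 := e (p + r)
  rw [map_add, hp, hr, add_zero, QuadraticMap.polar_zero_left, QuadraticMap.map_add q] at h3
  push_cast at h1
  by_cases hc : c = 0
  · subst hc
    have a1 : QuadraticMap.polar q p p' = 0 := (mul_eq_zero.1 (by linear_combination hqp' : s * _ = 0)).resolve_left hs
    have a2 : q p = 0 := by
      rcases mul_eq_zero.1 (by linear_combination h1 - hqp' : (s * 2) * q p = 0) with h | h
      · exact absurd h (mul_ne_zero hs two_ne_zero)
      · exact h
    exact ⟨a2, a1, (mul_eq_zero.1 (by linear_combination h2 - hqp' : s * _ = 0)).resolve_left hs⟩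
  · have a1 : q p = 0 := (mul_eq_zero.1 hqp.symm).resolve_left hc
    have a2 : QuadraticMap.polar q p p' = 0 := by
      refine (mul_eq_zero.1 (?_ : c * _ = 0)).resolve_left hc
      linear_combination -h1 + hqp' + (2 * s - c) * a1
    have a3 : q r = 0 := (mul_eq_zero.1 hqr.symm).resolve_left hc
    refine ⟨a1, a2, (mul_eq_zero.1 (?_ : c * _ = 0)).resolve_left hc⟩
    linear_combination -h3 - c * a1 - c * a3

end Groth.Agent.AdjVarLib

namespace Groth.Agent.AdjVarLib

variable {ι : Type u} {K : Type v} {L : Type w} [Fintype ι] [Field K] [LieRing L] [LieAlgebra K L]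
variable {H : LieSubalgebra K L} {b : LieAlgebra.Basis ι H}
variable [CharZero K] [FiniteDimensional K L] [LieRing.IsNilpotent H]
variable [IsAlgClosed K] [LieAlgebra.IsSimple K L] [IsLieAbelian H]
variable {ρ : Dual K H} {j : ι}

theorem exists_adj (hρ : g H ρ ≠ ⊥) (htop : ∀ i, g H (ρ + b.baseSupp i) = ⊥)
    (hN : ∀ i, ρ (b.h' i) ≠ 0 ↔ i = j) (hj : ρ (b.h' j) = 1) : ∃ x, Adj b ρ j x := by
  obtain ⟨x, hx0, hx, hh⟩ := (⟨hρ, htop⟩ : High b ρ).exists_eigen
  exact ⟨x, ⟨hρ, htop⟩, hN, hj, hx0, hx, hh⟩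

theorem Adj.stable_pair {x : L} (a : Adj b ρ j x) :
    Stable b (Submodule.span K (Set.range ![x, ⁅b.f j, x⁆])) := by
  classical
  constructor
  · intro i w hw
    obtain ⟨d, c, rfl⟩ : ∃ d c : K, d • ⁅b.f j, x⁆ + c • x = w := by
      simpa [Matrix.range_cons, Submodule.mem_span_pair] using hw
    rw [lie_add, lie_smul, lie_smul, a.e_x, a.e_y, smul_zero, add_zero]
    split_ifs
    · exact Submodule.smul_mem _ _ (Submodule.subset_span ⟨0, rfl⟩)
    · rw [smul_zero]; exact Submodule.zero_mem _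
  · intro h w hw
    obtain ⟨d, c, rfl⟩ : ∃ d c : K, d • ⁅b.f j, x⁆ + c • x = w := by
      simpa [Matrix.range_cons, Submodule.mem_span_pair] using hw
    rw [add_comm, lie_add, lie_smul, lie_smul, a.hh, a.h_y]
    exact Submodule.add_mem _ (Submodule.smul_mem _ _ (Submodule.smul_mem _ _ (Submodule.subset_span ⟨0, rfl⟩)))
      (Submodule.smul_mem _ _ (Submodule.smul_mem _ _ (Submodule.subset_span ⟨1, rfl⟩)))

theorem Adj.span_triple_eq {x : L} (a : Adj b ρ j x) (i : ι) :
    Submodule.span K (Set.range ![x, ⁅b.f j, x⁆, ⁅b.f i, ⁅b.f j, x⁆⁆]) =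
      g H ρ ⊔ g H (ρ - b.baseSupp j) ⊔ g H (ρ - b.baseSupp j - b.baseSupp i) := by
  rw [a.g_rho_eq, a.g_y_eq, a.g_z_eq, Matrix.range_cons, Matrix.range_cons, Matrix.range_cons,
    Matrix.range_empty, Set.union_empty, Submodule.span_union, Submodule.span_union, sup_assoc]

/-- A semi-invariant quadratic form on a Borel stable plane is a square. -/
theorem Adj.exists_sq {x : L} (a : Adj b ρ j x) (W : Submodule K L) (hW : Stable b W) (hr : finrank K W = 3)
    (q : QuadraticForm K W)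
    (hq : ∀ i, ∃ c : K, ∀ w : W, QuadraticMap.polar q ⟨⁅b.e i, (w : L)⁆, hW.he i w w.property⟩ w = c * q w) :
    ∃ (ℓ : Dual K W) (c : K), ∀ w : W, q w = c * ℓ w ^ 2 := by
  classical
  obtain ⟨i, hij, hA, hWeq⟩ := a.exists_triple hW hr
  have hmem : ∀ k, ![x, ⁅b.f j, x⁆, ⁅b.f i, ⁅b.f j, x⁆⁆] k ∈ W := fun k => by
    rw [hWeq]; exact Submodule.subset_span ⟨k, rfl⟩
  let v : Fin 3 → W := fun k => ⟨_, hmem k⟩
  have hv : LinearIndependent K v := LinearIndependent.of_comp W.subtype (a.linInd_triple hij hA)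
  let B := basisOfLinearIndependentOfCardEqFinrank hv (by rw [hr]; rfl)
  have hB : ∀ k, B k = v k := fun k => by simp [B]
  let E : ι → W →ₗ[K] W := fun k => (LieAlgebra.ad K L (b.e k)).restrict fun w hw => hW.he k w hw
  have hE : ∀ k (w : W), (E k w : L) = ⁅b.e k, (w : L)⁆ := fun k w => rfl
  obtain ⟨c₁, hc₁⟩ := hq j
  obtain ⟨c₂, hc₂⟩ := hq i
  obtain ⟨q0, p01, p02⟩ := quad_vanish q (E j) c₁ (fun w => hc₁ w) (v 0) (v 1) (v 2) 1 one_ne_zero
    (Subtype.ext (a.e_x j)) (Subtype.ext (by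
      rw [hE, one_smul]; exact (a.e_y j).trans (if_pos rfl)))
    (Subtype.ext (by
      rw [hE]; exact (a.e_z j i).trans (by rw [if_neg hij.symm, if_pos rfl, zero_add, a.fx_eq_zero hij]; rfl)))
  obtain ⟨q1, p12, p10⟩ := quad_vanish q (E i) c₂ (fun w => hc₂ w) (v 1) (v 2) (v 0) (-(b.A j i : K))
    (neg_ne_zero.2 (Int.cast_ne_zero.2 hA))
    (Subtype.ext (by rw [hE]; exact (a.e_y i).trans (if_neg hij)))
    (Subtype.ext (by rw [hE]; exact a.e_z_self hij))
    (Subtype.ext (a.e_x i))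
  refine ⟨B.coord 2, q (v 2), fun w => ?_⟩
  conv_lhs => rw [← B.sum_repr w]
  rw [Fin.sum_univ_three, hB, hB, hB, QuadraticMap.map_add q, QuadraticMap.map_add q, q.map_smul, q.map_smul,
    q.map_smul, QuadraticMap.polar_add_left, QuadraticMap.polar_smul_left, QuadraticMap.polar_smul_right,
    QuadraticMap.polar_smul_left, QuadraticMap.polar_smul_right, QuadraticMap.polar_smul_left,
    QuadraticMap.polar_smul_right, q0, p01, p02, q1, p12, Module.Basis.coord_apply]
  simp only [smul_eq_mul]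
  ring

end Groth.Agent.AdjVarLib
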